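import Cfsg.Agent.Lib.Char.Convolution
import Cfsg.Agent.Lib.Small.StructureConstantTwo
import Mathlib

/-!
# Products of elements of two classes
-/

set_option autoImplicit false
set_option linter.unusedSectionVars false

namespace Cfsg.Agent.Char.BrauerTuan

open Cfsg
open scoped ComplexConjugate

universe u

variable {G : Type u} [Group G] [Fintype G]

open scoped Classical in
/-- The number of ways to write `y` as a product of conjugates of `z` and `x`, conjugators counted. -/
theorem pairs_formula_two (z x y : G) :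
    (((Finset.univ : Finset (G × G)).filter fun t =>
        t.1 * z * t.1⁻¹ * (t.2 * x * t.2⁻¹) = y).card : ℂ) =
      (Nat.card G : ℂ) * ∑ χ : IrrCharacter G,
        conj ((χ : G → ℂ) y) * ((χ : G → ℂ) z * (χ : G → ℂ) x / (χ : G → ℂ) 1) := by
  set R := (Finset.univ : Finset (G × G)).filter fun t => t.1 * z * t.1⁻¹ * (t.2 * x * t.2⁻¹) = y with hR
  set S := (Finset.univ : Finset (G × G)).filter fun t => IsConj (t.1 * z * t.1⁻¹ * (t.2 * x * t.2⁻¹)) y with hS
  set W := (Finset.univ : Finset G).filter fun w => IsConj y w with hW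
  set n := Nat.card {x : G // IsConj y x} with hn
  have hWc : W.card = n := by rw [hn, Nat.card_eq_fintype_card, Fintype.card_subtype]
  have hfib : S.card = n * R.card := by
    rw [Finset.card_eq_sum_card_fiberwise (f := fun t : G × G => t.1 * z * t.1⁻¹ * (t.2 * x * t.2⁻¹))
      (t := W) (fun t ht => Finset.mem_filter.2 ⟨Finset.mem_univ _, (Finset.mem_filter.1 ht).2.symm⟩),
      ← hWc]
    refine Finset.sum_const_nat fun w hw => ?_
    obtain ⟨k, hk⟩ := isConj_iff.1 (Finset.mem_filter.1 hw).2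
    refine (Finset.card_equiv (Equiv.prodCongr (Equiv.mulLeft k) (Equiv.mulLeft k)) fun t => ?_).symm
    simp only [hR, hS, Finset.mem_filter, Finset.mem_univ, true_and, Equiv.prodCongr_apply, Prod.map,
      Equiv.coe_mulLeft]
    rw [show k * t.1 * z * (k * t.1)⁻¹ * (k * t.2 * x * (k * t.2)⁻¹) =
      k * (t.1 * z * t.1⁻¹ * (t.2 * x * t.2⁻¹)) * k⁻¹ by group, ← hk]
    constructor
    · intro h
      rw [h]
      exact ⟨isConj_iff.2 ⟨k⁻¹, by group⟩, rfl⟩
    · rintro ⟨-, h⟩
      exact mul_left_cancel (mul_right_cancel h)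
  have hn0 : (n : ℂ) ≠ 0 := Nat.cast_ne_zero.2 (card_conjClass_ne_zero y)
  have hG0 : (Nat.card G : ℂ) ≠ 0 := Nat.cast_ne_zero.2 Nat.card_pos.ne'
  have h1 : (S.card : ℂ) * ((Nat.card G : ℂ) / n) =
      ∑ t : G × G, ∑ χ : IrrCharacter G,
        (χ : G → ℂ) (t.1 * z * t.1⁻¹ * (t.2 * x * t.2⁻¹)) * conj ((χ : G → ℂ) y) := by
    rw [Finset.sum_congr rfl fun t _ => second_orth (t.1 * z * t.1⁻¹ * (t.2 * x * t.2⁻¹)) y,
      ← Finset.sum_filter, Finset.sum_const, nsmul_eq_mul]
  have h2 : ∀ χ : IrrCharacter G, ∑ t : G × G, (χ : G → ℂ) (t.1 * z * t.1⁻¹ * (t.2 * x * t.2⁻¹)) =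
      (Nat.card G : ℂ) * (Nat.card G : ℂ) * ((χ : G → ℂ) z * (χ : G → ℂ) x / (χ : G → ℂ) 1) := by
    intro χ
    have hd : (χ : G → ℂ) 1 ≠ 0 := by
      rw [char_one_eq_deg (irr_isCharacter χ.2)]
      exact Nat.cast_ne_zero.2 (deg_pos χ.2).ne'
    rw [Fintype.sum_prod_type]
    have hin : ∀ a : G, ∑ b : G, (χ : G → ℂ) (a * z * a⁻¹ * (b * x * b⁻¹)) =
        (Nat.card G : ℂ) * ((χ : G → ℂ) z * (χ : G → ℂ) x / (χ : G → ℂ) 1) := fun a => by
      have h := sum_conj_mul χ.2 (a * z * a⁻¹) x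
      rw [isClassFunction_character (irr_isCharacter χ.2) z a] at h
      field_simp
      linear_combination h
    rw [Finset.sum_congr rfl fun a _ => hin a, Finset.sum_const, Finset.card_univ, nsmul_eq_mul,
      ← Nat.card_eq_fintype_card, mul_assoc]
  rw [Finset.sum_comm] at h1
  simp only [← Finset.sum_mul] at h1
  rw [Finset.sum_congr rfl fun χ _ => by rw [h2 χ], hfib] at h1
  push_cast at h1
  field_simp at h1
  refine mul_left_cancel₀ hG0 ?_
  rw [Finset.mul_sum, Finset.mul_sum, mul_comm (Nat.card G : ℂ) (R.card : ℂ), h1]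
  refine Finset.sum_congr rfl fun χ _ => ?_
  ring

open scoped Classical in
/-- The number of these ways is divisible by the orders of both centralisers. -/
theorem centralizers_dvd_pairs (z x y : G) :
    Nat.card (Subgroup.centralizer ({z} : Set G)) * Nat.card (Subgroup.centralizer ({x} : Set G)) ∣
      ((Finset.univ : Finset (G × G)).filter fun t =>
        t.1 * z * t.1⁻¹ * (t.2 * x * t.2⁻¹) = y).card := by
  obtain ⟨H, hH⟩ : ∃ H : Subgroup (G × G),
      H = (Subgroup.centralizer ({z} : Set G)).prod (Subgroup.centralizer ({x} : Set G)) := ⟨_, rfl⟩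
  have hcard : Nat.card H =
      Nat.card (Subgroup.centralizer ({z} : Set G)) * Nat.card (Subgroup.centralizer ({x} : Set G)) := by
    rw [hH, Nat.card_congr (Subgroup.prodEquiv _ _).toEquiv, Nat.card_prod]
  obtain ⟨T, hT⟩ : ∃ T : Set ((G × G) ⧸ H),
      T = QuotientGroup.mk '' {t : G × G | t.1 * z * t.1⁻¹ * (t.2 * x * t.2⁻¹) = y} := ⟨_, rfl⟩
  have hcomm : ∀ {w c : G}, c ∈ Subgroup.centralizer ({w} : Set G) → ∀ g : G,
      g * c * w * (g * c)⁻¹ = g * w * g⁻¹ := fun {w c} hc g => by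
    rw [mul_inv_rev, mul_assoc g c, Subgroup.mem_centralizer_singleton_iff.mp hc]
    group
  have hpre : QuotientGroup.mk ⁻¹' T = {t : G × G | t.1 * z * t.1⁻¹ * (t.2 * x * t.2⁻¹) = y} := by
    ext t
    rw [hT]
    constructor
    · rintro ⟨s, hs, hst⟩
      have hm := QuotientGroup.eq.mp hst
      rw [hH, Subgroup.mem_prod] at hm
      obtain ⟨h1, h2⟩ := hm
      show t.1 * z * t.1⁻¹ * (t.2 * x * t.2⁻¹) = y
      have e1 := hcomm h1 s.1
      have e2 := hcomm h2 s.2
      simp only [Prod.fst_mul, Prod.fst_inv, mul_inv_cancel_left, Prod.snd_mul, Prod.snd_inv] at e1 e2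
      rw [e1, e2]
      exact hs
    · intro ht
      exact ⟨t, ht, rfl⟩
  refine ⟨Nat.card T, ?_⟩
  rw [← hcard, ← Nat.card_eq_finsetCard, ← Nat.card_prod,
    ← Nat.card_congr (QuotientGroup.preimageMkEquivSubgroupProdSet H T)]
  exact Nat.card_congr (Equiv.subtypeEquivRight fun t => by
    rw [Finset.mem_filter, hpre, Set.mem_setOf_eq]
    simp)

end Cfsg.Agent.Char.BrauerTuan
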